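import Mathlib.RingTheory.Bialgebra.Convolution
import Mathlib.LinearAlgebra.Dual.Basis
import Groth.Agent.Sga3.H815.LocNil

/-!
# Finite dimensional subcoalgebras and universal group-like elements

`IsChar w` for `w ∈ B ⊗ H`: multiplicative as a function on points of `H`.
For a finite dimensional subcoalgebra `V` of `H` the dual algebra `Bd V` carries the universal character `uni V` with
coefficients in `V`.
-/

set_option autoImplicit false
universe u

noncomputable section

namespace K789.DDAlg

open TensorProduct Coalgebra WithConv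

section char

variable {k : Type u} [CommRing k] {H : Type u} [CommRing H] [Bialgebra k H]
variable {B C D : Type u} [CommRing B] [Algebra k B] [CommRing C] [Algebra k C] [CommRing D] [Algebra k D]

/-- The value of `w ∈ B ⊗ H` on a linear functional. -/
def evl (ρ : B →ₐ[k] C) (φ : H →ₗ[k] C) : B ⊗[k] H →ₗ[k] C :=
  LinearMap.mul' k C ∘ₗ TensorProduct.map ρ.toLinearMap φ

@[simp] theorem evl_tmul (ρ : B →ₐ[k] C) (φ : H →ₗ[k] C) (b : B) (h : H) : evl ρ φ (b ⊗ₜ h) = ρ b * φ h := rfl

theorem evl_alg (ρ : B →ₐ[k] C) (x : H →ₐ[k] C) (w : B ⊗[k] H) :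
    evl ρ x.toLinearMap w = Algebra.TensorProduct.lift ρ x (fun _ _ => Commute.all _ _) w := by
  induction w using TensorProduct.induction_on with
  | zero => simp
  | tmul b h => simp
  | add w w' hw hw' => rw [map_add, map_add, hw, hw']

theorem evl_mul (ρ : B →ₐ[k] C) (x : H →ₐ[k] C) (w w' : B ⊗[k] H) :
    evl ρ x.toLinearMap (w * w') = evl ρ x.toLinearMap w * evl ρ x.toLinearMap w' := by
  rw [evl_alg, evl_alg, evl_alg, map_mul]

theorem evl_one (ρ : B →ₐ[k] C) (x : H →ₐ[k] C) : evl ρ x.toLinearMap 1 = 1 := by
  rw [evl_alg, map_one]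

theorem evl_comp (σ : C →ₐ[k] D) (ρ : B →ₐ[k] C) (φ : H →ₗ[k] C) (w : B ⊗[k] H) :
    evl (σ.comp ρ) (σ.toLinearMap ∘ₗ φ) w = σ (evl ρ φ w) := by
  induction w using TensorProduct.induction_on with
  | zero => simp
  | tmul b h => simp
  | add w w' hw hw' => rw [map_add, map_add, map_add, hw, hw']

/-- Base change of the coefficients. -/
abbrev mp (σ : B →ₐ[k] C) : B ⊗[k] H →ₐ[k] C ⊗[k] H := Algebra.TensorProduct.map σ (AlgHom.id k H)

theorem evl_mp (σ : B →ₐ[k] C) (ρ : C →ₐ[k] D) (φ : H →ₗ[k] D) (w : B ⊗[k] H) :
    evl ρ φ (mp σ w) = evl (ρ.comp σ) φ w := by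
  induction w using TensorProduct.induction_on with
  | zero => simp
  | tmul b h => simp
  | add w w' hw hw' => rw [map_add, map_add, map_add, hw, hw']

/-- `w ∈ B ⊗ H` is a character: multiplicative on points. -/
def IsChar (w : B ⊗[k] H) : Prop :=
  (∀ (C : Type u) [CommRing C] [Algebra k C] (ρ : B →ₐ[k] C),
    evl ρ (1 : WithConv (H →ₐ[k] C)).ofConv.toLinearMap w = 1) ∧
  (∀ (C : Type u) [CommRing C] [Algebra k C] (ρ : B →ₐ[k] C) (x y : WithConv (H →ₐ[k] C)),
    evl ρ (x * y).ofConv.toLinearMap w = evl ρ x.ofConv.toLinearMap w * evl ρ y.ofConv.toLinearMap w)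

theorem IsChar.map {w : B ⊗[k] H} (hw : IsChar w) (σ : B →ₐ[k] C) : IsChar (mp σ w) :=
  ⟨fun D _ _ ρ => by rw [evl_mp]; exact hw.1 D _, fun D _ _ ρ x y => by
    rw [evl_mp, evl_mp, evl_mp]; exact hw.2 D _ x y⟩

theorem isChar_one : IsChar (1 : B ⊗[k] H) :=
  ⟨fun D _ _ ρ => evl_one _ _, fun D _ _ ρ x y => by rw [evl_one, evl_one, evl_one, one_mul]⟩

theorem IsChar.mul {w w' : B ⊗[k] H} (hw : IsChar w) (hw' : IsChar w') : IsChar (w * w') :=
  ⟨fun D _ _ ρ => by rw [evl_mul, hw.1, hw'.1, one_mul], fun D _ _ ρ x y => by
    rw [evl_mul, evl_mul, evl_mul, hw.2, hw'.2, mul_mul_mul_comm]⟩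

end char

section coalg

variable {k : Type u} [Field k] {H : Type u} [CommRing H] [Bialgebra k H]
variable (V : Submodule k H)

/-- `V` is a subcoalgebra. -/
def IsSub : Prop := ∀ d ∈ V, (comul d : H ⊗[k] H) ∈ LinearMap.range (TensorProduct.map V.subtype V.subtype)

variable {V} (hV : IsSub V)

theorem map_inj {V W : Submodule k H} : Function.Injective (TensorProduct.map V.subtype W.subtype) := by
  have h : TensorProduct.map V.subtype W.subtype = (W.subtype.lTensor H) ∘ₗ (V.subtype.rTensor W) :=
    (LinearMap.lTensor_comp_rTensor _ _ _).symm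
  rw [h, LinearMap.coe_comp]
  exact (Module.Flat.lTensor_preserves_injective_linearMap _ W.injective_subtype).comp
    (Module.Flat.rTensor_preserves_injective_linearMap _ V.injective_subtype)

theorem map_inj₃ : Function.Injective
    (TensorProduct.map V.subtype (TensorProduct.map V.subtype V.subtype)) := by
  have h : TensorProduct.map V.subtype (TensorProduct.map V.subtype V.subtype) =
      ((TensorProduct.map V.subtype V.subtype).lTensor H) ∘ₗ (V.subtype.rTensor (V ⊗[k] V)) :=
    (LinearMap.lTensor_comp_rTensor _ _ _).symm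
  rw [h, LinearMap.coe_comp]
  exact (Module.Flat.lTensor_preserves_injective_linearMap _ map_inj).comp
    (Module.Flat.rTensor_preserves_injective_linearMap _ V.injective_subtype)

/-- The comultiplication of a subcoalgebra. -/
def cm : V →ₗ[k] V ⊗[k] V :=
  (LinearEquiv.ofInjective (TensorProduct.map V.subtype V.subtype) map_inj).symm.toLinearMap ∘ₗ
    (comul ∘ₗ V.subtype).codRestrict _ (fun d => hV d d.2)

theorem map_cm (d : V) : TensorProduct.map V.subtype V.subtype (cm hV d) = comul (R := k) (d : H) := by
  have h := LinearEquiv.apply_symm_apply (LinearEquiv.ofInjective (TensorProduct.map V.subtype V.subtype) map_inj)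
    ((comul ∘ₗ V.subtype).codRestrict _ (fun d => hV d d.2) d)
  exact congrArg Subtype.val h

/-- A subcoalgebra as a coalgebra. -/
@[reducible] def coalg : Coalgebra k V where
  comul := cm hV
  counit := counit ∘ₗ V.subtype
  coassoc := by
    apply LinearMap.ext
    intro d
    apply map_inj₃ (V := V)
    have h1 : ∀ t : V ⊗[k] V, TensorProduct.map V.subtype (TensorProduct.map V.subtype V.subtype)
        (TensorProduct.assoc k V V V ((cm hV).rTensor V t)) =
        TensorProduct.assoc k H H H ((comul (R := k) (A := H)).rTensor H (TensorProduct.map V.subtype V.subtype t)) := by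
      intro t
      induction t using TensorProduct.induction_on with
      | zero => simp
      | add x y hx hy => simp only [map_add, hx, hy]
      | tmul x y =>
        rw [LinearMap.rTensor_tmul, TensorProduct.map_tmul, LinearMap.rTensor_tmul, Submodule.subtype_apply,
          ← map_cm hV]
        generalize cm hV x = s
        induction s using TensorProduct.induction_on with
        | zero => simp
        | add x y hx hy => simp only [map_add, hx, hy, add_tmul]
        | tmul a b => rfl
    have h2 : ∀ t : V ⊗[k] V, TensorProduct.map V.subtype (TensorProduct.map V.subtype V.subtype)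
        ((cm hV).lTensor V t) =
        (comul (R := k) (A := H)).lTensor H (TensorProduct.map V.subtype V.subtype t) := by
      intro t
      induction t using TensorProduct.induction_on with
      | zero => simp
      | add x y hx hy => simp only [map_add, hx, hy]
      | tmul x y =>
        rw [LinearMap.lTensor_tmul, TensorProduct.map_tmul, TensorProduct.map_tmul, LinearMap.lTensor_tmul,
          Submodule.subtype_apply, Submodule.subtype_apply, map_cm hV]
    simp only [LinearMap.comp_apply, LinearEquiv.coe_coe]
    rw [h1, h2, map_cm hV, coassoc_apply]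
  rTensor_counit_comp_comul := by
    apply LinearMap.ext
    intro d
    have hinj : Function.Injective (V.subtype.lTensor k) :=
      Module.Flat.lTensor_preserves_injective_linearMap _ V.injective_subtype
    apply hinj
    have h1 : ∀ t : V ⊗[k] V, V.subtype.lTensor k (((counit (R := k) (A := H)) ∘ₗ V.subtype).rTensor V t) =
        (counit (R := k) (A := H)).rTensor H (TensorProduct.map V.subtype V.subtype t) := by
      intro t
      induction t using TensorProduct.induction_on with
      | zero => simp
      | add x y hx hy => simp only [map_add, hx, hy]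
      | tmul x y => rfl
    rw [LinearMap.comp_apply, h1, map_cm hV, rTensor_counit_comul]
    rfl
  lTensor_counit_comp_comul := by
    apply LinearMap.ext
    intro d
    have hinj : Function.Injective (V.subtype.rTensor k) :=
      Module.Flat.rTensor_preserves_injective_linearMap _ V.injective_subtype
    apply hinj
    have h1 : ∀ t : V ⊗[k] V, V.subtype.rTensor k (((counit (R := k) (A := H)) ∘ₗ V.subtype).lTensor V t) =
        (counit (R := k) (A := H)).lTensor H (TensorProduct.map V.subtype V.subtype t) := by
      intro t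
      induction t using TensorProduct.induction_on with
      | zero => simp
      | add x y hx hy => simp only [map_add, hx, hy]
      | tmul x y => rfl
    rw [LinearMap.comp_apply, h1, map_cm hV, lTensor_counit_comul]
    rfl

theorem cocomm [IsCocomm k H] : letI := coalg hV; IsCocomm k V := by
  letI := coalg hV
  refine ⟨?_⟩
  apply LinearMap.ext
  intro d
  apply map_inj (V := V) (W := V)
  have h1 : ∀ t : V ⊗[k] V, TensorProduct.map V.subtype V.subtype (TensorProduct.comm k V V t) =
      TensorProduct.comm k H H (TensorProduct.map V.subtype V.subtype t) := by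
    intro t
    induction t using TensorProduct.induction_on with
    | zero => simp
    | add x y hx hy => simp only [map_add, hx, hy]
    | tmul x y => rfl
  change TensorProduct.map V.subtype V.subtype (TensorProduct.comm k V V (cm hV d)) =
    TensorProduct.map V.subtype V.subtype (cm hV d)
  rw [h1, map_cm hV, comm_comul]

/-- The dual algebra of a subcoalgebra. -/
def Bd (_ : IsSub V) : Type u := WithConv (V →ₗ[k] k)

instance [IsCocomm k H] : CommRing (Bd hV) :=
  @LinearMap.convCommRing k k V _ _ _ _ _ (coalg hV) (cocomm hV)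

instance [IsCocomm k H] : Algebra k (Bd hV) :=
  @LinearMap.convAlgebra k k k V _ _ _ _ _ (coalg hV) _ _ _

variable [IsCocomm k H]

/-- Elements of the dual algebra as functionals. -/
def fn : Bd hV ≃ₗ[k] (V →ₗ[k] k) where
  toFun f := f.ofConv
  invFun f := toConv f
  left_inv _ := rfl
  right_inv _ := rfl
  map_add' _ _ := rfl
  map_smul' _ _ := rfl

theorem fn_mul (f g : Bd hV) (d : V) :
    fn hV (f * g) d = LinearMap.mul' k k (TensorProduct.map (fn hV f) (fn hV g) (cm hV d)) := rfl

theorem fn_one (d : V) : fn hV (1 : Bd hV) d = counit (R := k) (d : H) := rfl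

variable {n : ℕ} (c : Module.Basis (Fin n) k V)

/-- The dual basis. -/
def db : Module.Basis (Fin n) k (Bd hV) := c.dualBasis.map (fn hV).symm

theorem fn_db (i : Fin n) : fn hV (db hV c i) = c.coord i := by
  rw [db, Module.Basis.map_apply, LinearEquiv.apply_symm_apply, Module.Basis.coe_dualBasis]

theorem eq_sum (f : Bd hV) : f = ∑ i, fn hV f (c i) • db hV c i := by
  apply (fn hV).injective
  rw [map_sum]
  simp_rw [map_smul, fn_db]
  exact (Module.Basis.sum_dual_apply_smul_coord c _).symm

/-- The universal character of `V`. -/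
def uni : Bd hV ⊗[k] H := ∑ i, db hV c i ⊗ₜ (c i : H)

theorem evl_uni {C : Type u} [CommRing C] [Algebra k C] (ρ : Bd hV →ₐ[k] C) (φ : H →ₗ[k] C) :
    evl ρ φ (uni hV c) = ∑ i, ρ (db hV c i) * φ (c i) := by
  rw [uni, map_sum]
  rfl

theorem sum_map {C : Type u} [CommRing C] [Algebra k C] (x y : H →ₗ[k] C) (t : V ⊗[k] V) :
    ∑ i, ∑ j, LinearMap.mul' k k (TensorProduct.map (c.coord i) (c.coord j) t) • (x (c i) * y (c j)) =
      LinearMap.mul' k C (TensorProduct.map x y (TensorProduct.map V.subtype V.subtype t)) := by
  induction t using TensorProduct.induction_on with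
  | zero => simp
  | add s t hs ht =>
    simp only [map_add, add_smul, Finset.sum_add_distrib, hs, ht]
  | tmul a b =>
    simp only [TensorProduct.map_tmul, LinearMap.mul'_apply, Submodule.subtype_apply]
    conv_rhs => rw [← c.sum_repr a, ← c.sum_repr b]
    simp only [Submodule.coe_sum, Submodule.coe_smul, map_sum, map_smul]
    rw [Finset.sum_mul_sum]
    refine Finset.sum_congr rfl fun i _ => Finset.sum_congr rfl fun j _ => ?_
    rw [smul_mul_smul_comm, Module.Basis.coord_apply, Module.Basis.coord_apply]

theorem isChar_uni : IsChar (uni hV c) := by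
  refine ⟨fun C _ _ ρ => ?_, fun C _ _ ρ x y => ?_⟩
  · rw [evl_uni, ← map_one ρ, eq_sum hV c (1 : Bd hV), map_sum]
    refine Finset.sum_congr rfl fun i _ => ?_
    rw [map_smul, fn_one, Algebra.smul_def, mul_comm]
    rfl
  · rw [evl_uni, evl_uni, evl_uni, Finset.sum_mul_sum]
    have h1 : ∀ i j, ρ (db hV c i) * x.ofConv.toLinearMap (c i) * (ρ (db hV c j) * y.ofConv.toLinearMap (c j)) =
        ∑ l, ρ (db hV c l) * (LinearMap.mul' k k (TensorProduct.map (c.coord i) (c.coord j) (cm hV (c l))) •
          (x.ofConv.toLinearMap (c i) * y.ofConv.toLinearMap (c j))) := by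
      intro i j
      rw [mul_mul_mul_comm, ← map_mul, eq_sum hV c (db hV c i * db hV c j), map_sum, Finset.sum_mul]
      refine Finset.sum_congr rfl fun l _ => ?_
      rw [map_smul, fn_mul, fn_db, fn_db, smul_mul_assoc, mul_smul_comm]
    simp_rw [h1]
    have h2 : ∀ f : Fin n → Fin n → Fin n → C, ∑ i, ∑ j, ∑ l, f i j l = ∑ l, ∑ i, ∑ j, f i j l := by
      intro f
      rw [Finset.sum_congr rfl fun i _ => Finset.sum_comm, Finset.sum_comm]
    rw [h2]
    refine Finset.sum_congr rfl fun l _ => ?_
    simp_rw [← Finset.mul_sum]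
    rw [sum_map c, map_cm hV]
    rfl

end coalg

end K789.DDAlg
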