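import Groth.Agent.GmDual.K789.Coalg

/-!
# Formal Cartier duality: natural multiplicative functions on characters are points

`H` a cocommutative commutative bialgebra over a field `k`, `R` a `k`-algebra.
* `eq_of_evl`: points of `H` in `R` are separated by characters over `R`-algebras.
* `exists_eval`: a natural multiplicative function on the characters over all `R`-algebras is the evaluation at a point.
-/

set_option autoImplicit false
universe u

noncomputable section

namespace K789.DDAlg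

open TensorProduct Coalgebra WithConv

variable {k : Type u} [Field k] {H : Type u} [CommRing H] [Bialgebra k H] [IsCocomm k H]

section univ

variable {V : Submodule k H} (hV : IsSub V) {n : ℕ} (c : Module.Basis (Fin n) k V)
variable {C : Type u} [CommRing C] [Algebra k C]

omit [IsCocomm k H] in
theorem exists_coeff (w : C ⊗[k] H) (hw : w ∈ LinearMap.range (V.subtype.lTensor C)) :
    ∃ γ : Fin n → C, w = ∑ i, γ i ⊗ₜ (c i : H) := by
  obtain ⟨t, rfl⟩ := hw
  induction t using TensorProduct.induction_on with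
  | zero => exact ⟨0, by simp⟩
  | add s t hs ht =>
    obtain ⟨γ, hγ⟩ := hs
    obtain ⟨δ, hδ⟩ := ht
    refine ⟨γ + δ, ?_⟩
    rw [map_add, hγ, hδ, ← Finset.sum_add_distrib]
    simp only [Pi.add_apply, add_tmul]
  | tmul a v =>
    refine ⟨fun i => c.repr v i • a, ?_⟩
    rw [LinearMap.lTensor_tmul, Submodule.subtype_apply]
    conv_lhs => rw [← c.sum_repr v]
    rw [Submodule.coe_sum, TensorProduct.tmul_sum]
    refine Finset.sum_congr rfl fun i _ => ?_
    rw [Submodule.coe_smul, ← TensorProduct.smul_tmul]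

/-- The universal property of the universal character. -/
theorem exists_hom (w : C ⊗[k] H) (hc : IsChar w) (hw : w ∈ LinearMap.range (V.subtype.lTensor C)) :
    ∃ σ : Bd hV →ₐ[k] C, mp σ (uni hV c) = w := by
  obtain ⟨γ, hγ⟩ := exists_coeff c w hw
  let s : Bd hV →ₗ[k] C := (Fintype.linearCombination k γ) ∘ₗ (LinearMap.pi fun i => (LinearMap.applyₗ (c i)) ∘ₗ (fn hV).toLinearMap)
  have hs : ∀ f, s f = ∑ i, fn hV f (c i) • γ i := fun f => rfl
  have h1 : s 1 = 1 := by
    have h2 := hc.1 C (AlgHom.id k C)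
    rw [hγ, map_sum] at h2
    rw [hs, ← h2]
    refine Finset.sum_congr rfl fun i _ => ?_
    rw [fn_one, Algebra.smul_def, mul_comm]
    rfl
  have hmul : ∀ f g, s (f * g) = s f * s g := by
    intro f g
    obtain ⟨f', hf'⟩ := LinearMap.exists_extend (fn hV f)
    obtain ⟨g', hg'⟩ := LinearMap.exists_extend (fn hV g)
    let D := C ⊗[k] (H ⊗[k] H)
    let x : WithConv (H →ₐ[k] D) := toConv (Algebra.TensorProduct.includeRight.comp Algebra.TensorProduct.includeLeft)
    let y : WithConv (H →ₐ[k] D) := toConv (Algebra.TensorProduct.includeRight.comp Algebra.TensorProduct.includeRight)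
    have hxy : ∀ h : H, (x * y).ofConv h = (1 : C) ⊗ₜ[k] comul (R := k) h := by
      intro h
      have h0 : ∀ t : H ⊗[k] H, Algebra.TensorProduct.lift (x.ofConv) (y.ofConv) (fun _ _ => .all _ _) t = (1 : C) ⊗ₜ[k] t := by
        intro t
        induction t using TensorProduct.induction_on with
        | zero => rw [map_zero, tmul_zero]
        | add a b ha hb => rw [map_add, ha, hb, tmul_add]
        | tmul a b =>
          rw [Algebra.TensorProduct.lift_tmul]
          change ((1 : C) ⊗ₜ[k] (a ⊗ₜ[k] (1 : H))) * ((1 : C) ⊗ₜ[k] ((1 : H) ⊗ₜ[k] b)) = _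
          rw [Algebra.TensorProduct.tmul_mul_tmul, Algebra.TensorProduct.tmul_mul_tmul, one_mul, mul_one, one_mul]
      rw [AlgHom.convMul_apply]
      exact h0 _
    have h2 := hc.2 D Algebra.TensorProduct.includeLeft x y
    -- contraction with `f' ⊗ g'`
    let T : D →ₗ[k] C := (TensorProduct.rid k C).toLinearMap ∘ₗ
      (LinearMap.mul' k k ∘ₗ TensorProduct.map f' g').lTensor C
    have hT : ∀ (a : C) (p q : H), T (a ⊗ₜ (p ⊗ₜ q)) = (f' p * g' q) • a := fun a p q => rfl
    have h3 := congrArg T h2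
    have e1 : T (evl Algebra.TensorProduct.includeLeft (x * y).ofConv.toLinearMap w) = s (f * g) := by
      rw [hγ, map_sum, map_sum, hs]
      refine Finset.sum_congr rfl fun i _ => ?_
      rw [evl_tmul]
      change T ((γ i ⊗ₜ[k] (1 : H ⊗[k] H)) * (x * y).ofConv (c i)) = _
      rw [hxy, Algebra.TensorProduct.tmul_mul_tmul, mul_one, one_mul, ← map_cm hV, fn_mul]
      generalize cm hV (c i) = t
      induction t using TensorProduct.induction_on with
      | zero => simp
      | add a b ha hb => rw [map_add, tmul_add, map_add, ha, hb, map_add, map_add, add_smul]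
      | tmul a b =>
        rw [TensorProduct.map_tmul, hT]
        have ef : f' (V.subtype a) = fn hV f a := LinearMap.congr_fun hf' a
        have eg : g' (V.subtype b) = fn hV g b := LinearMap.congr_fun hg' b
        rw [ef, eg]
        rfl
    have e2 : T (evl Algebra.TensorProduct.includeLeft x.ofConv.toLinearMap w *
        evl Algebra.TensorProduct.includeLeft y.ofConv.toLinearMap w) = s f * s g := by
      rw [hγ, map_sum, map_sum, Finset.sum_mul_sum, map_sum, hs, hs, Finset.sum_mul_sum]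
      refine Finset.sum_congr rfl fun i _ => ?_
      rw [map_sum]
      refine Finset.sum_congr rfl fun j _ => ?_
      have e3 : evl Algebra.TensorProduct.includeLeft x.ofConv.toLinearMap (γ i ⊗ₜ[k] (c i : H)) *
          evl Algebra.TensorProduct.includeLeft y.ofConv.toLinearMap (γ j ⊗ₜ[k] (c j : H)) =
          ((γ i * γ j) ⊗ₜ[k] ((c i : H) ⊗ₜ[k] (c j : H)) : D) := by
        change ((γ i ⊗ₜ[k] (1 : H ⊗[k] H)) * ((1 : C) ⊗ₜ[k] ((c i : H) ⊗ₜ[k] (1 : H)))) *
          ((γ j ⊗ₜ[k] (1 : H ⊗[k] H)) * ((1 : C) ⊗ₜ[k] ((1 : H) ⊗ₜ[k] (c j : H)))) = _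
        simp only [Algebra.TensorProduct.tmul_mul_tmul, mul_one, one_mul]
      rw [e3, hT]
      have ef : f' (c i : H) = fn hV f (c i) := LinearMap.congr_fun hf' (c i)
      have eg : g' (c j : H) = fn hV g (c j) := LinearMap.congr_fun hg' (c j)
      rw [ef, eg, smul_mul_smul_comm]
    rw [e1, e2] at h3
    exact h3
  refine ⟨AlgHom.ofLinearMap s h1 hmul, ?_⟩
  rw [uni, map_sum, hγ]
  refine Finset.sum_congr rfl fun i _ => ?_
  rw [Algebra.TensorProduct.map_tmul]
  congr 1
  change s (db hV c i) = γ i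
  rw [hs, Finset.sum_eq_single i]
  · rw [fn_db, Module.Basis.coord_apply, Module.Basis.repr_self, Finsupp.single_eq_same, one_smul]
  · intro j _ hj
    rw [fn_db, Module.Basis.coord_apply, Module.Basis.repr_self, Finsupp.single_eq_of_ne (Ne.symm hj), zero_smul]
  · intro h
    exact absurd (Finset.mem_univ i) h

end univ

section good

/-- finite dimensional subcoalgebras -/
def Good (V : Submodule k H) : Prop := V.FG ∧ IsSub V

omit [IsCocomm k H] in
theorem range_mono {V W : Submodule k H} (h : V ≤ W) {P : Type u} [AddCommGroup P] [Module k P] :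
    LinearMap.range (V.subtype.lTensor P) ≤ LinearMap.range (W.subtype.lTensor P) := by
  have : V.subtype = W.subtype ∘ₗ Submodule.inclusion h := rfl
  rw [this, LinearMap.lTensor_comp]
  exact LinearMap.range_comp_le_range _ _

omit [IsCocomm k H] in
theorem Good.sup {V W : Submodule k H} (hV : Good V) (hW : Good W) : Good (V ⊔ W) := by
  refine ⟨hV.1.sup hW.1, ?_⟩
  intro d hd
  obtain ⟨a, ha, b, hb, rfl⟩ := Submodule.mem_sup.1 hd
  have key : ∀ {U W : Submodule k H} (_ : U ≤ W), LinearMap.range (TensorProduct.map U.subtype U.subtype) ≤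
      LinearMap.range (TensorProduct.map W.subtype W.subtype) := by
    intro U W h
    have : U.subtype = W.subtype ∘ₗ Submodule.inclusion h := rfl
    rw [this, TensorProduct.map_comp]
    exact LinearMap.range_comp_le_range _ _
  rw [map_add]
  exact Submodule.add_mem _ (key le_sup_left (hV.2 a ha)) (key le_sup_right (hW.2 b hb))

attribute [local instance] Groth.Agent.Sga3.H815.LocNil.actModule

theorem exists_good (h : H) : ∃ V : Submodule k H, Good V ∧ h ∈ V := by
  refine ⟨(Submodule.span (WithConv (H →ₗ[k] k)) {h}).restrictScalars k,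
    ⟨Groth.Agent.Sga3.H815.LocNil.finite_span_singleton h, ?_⟩, ?_⟩
  · exact Groth.Agent.Sga3.H815.LocNil.comul_mem_of_submodule _
  · exact Submodule.mem_span_singleton_self h

theorem exists_good_tensor {C : Type u} [CommRing C] [Algebra k C] (w : C ⊗[k] H) :
    ∃ V : Submodule k H, Good V ∧ w ∈ LinearMap.range (V.subtype.lTensor C) := by
  induction w using TensorProduct.induction_on with
  | zero =>
    obtain ⟨V, hV, _⟩ := exists_good (k := k) (0 : H)
    exact ⟨V, hV, zero_mem _⟩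
  | tmul a h =>
    obtain ⟨V, hV, hh⟩ := exists_good (k := k) h
    exact ⟨V, hV, ⟨a ⊗ₜ ⟨h, hh⟩, rfl⟩⟩
  | add s t hs ht =>
    obtain ⟨V, hV, h1⟩ := hs
    obtain ⟨W, hW, h2⟩ := ht
    exact ⟨V ⊔ W, hV.sup hW, Submodule.add_mem _ (range_mono le_sup_left h1) (range_mono le_sup_right h2)⟩

end good

section sep

omit [IsCocomm k H] in
theorem exists_basis {V : Submodule k H} (hV : Good V) : ∃ n, Nonempty (Module.Basis (Fin n) k V) := by
  have : Module.Finite k V := Module.Finite.iff_fg.2 hV.1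
  exact ⟨_, ⟨Module.finBasis k V⟩⟩

/-- The element `∑ b i ⊗ c i`. -/
def un {V : Submodule k H} {n : ℕ} (c : Module.Basis (Fin n) k V) {B : Type u} [CommRing B] [Algebra k B]
    (b : Module.Basis (Fin n) k B) : B ⊗[k] H := ∑ i, b i ⊗ₜ (c i : H)

/-- `b` gives the universal character with coefficients in `V`. -/
def IsUn {V : Submodule k H} {n : ℕ} (c : Module.Basis (Fin n) k V) {B : Type u} [CommRing B] [Algebra k B]
    (b : Module.Basis (Fin n) k B) : Prop :=
  IsChar (un c b) ∧ ∀ (C : Type u) [CommRing C] [Algebra k C] (w : C ⊗[k] H), IsChar w →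
    w ∈ LinearMap.range (V.subtype.lTensor C) → ∃ σ : B →ₐ[k] C, mp σ (un c b) = w

theorem exists_un {V : Submodule k H} (hV : Good V) : ∃ (n : ℕ) (c : Module.Basis (Fin n) k V) (B : Type u)
    (_ : CommRing B) (_ : Algebra k B) (b : Module.Basis (Fin n) k B), IsUn c b := by
  obtain ⟨n, ⟨c⟩⟩ := exists_basis hV
  exact ⟨n, c, Bd hV.2, inferInstance, inferInstance, db hV.2 c, isChar_uni hV.2 c,
    fun C _ _ w hw hm => exists_hom hV.2 c w hw hm⟩

variable {V : Submodule k H} {n : ℕ} (c : Module.Basis (Fin n) k V) {B : Type u} [CommRing B] [Algebra k B]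
    (b : Module.Basis (Fin n) k B)

omit [IsCocomm k H] in
theorem evl_un {C : Type u} [CommRing C] [Algebra k C] (ρ : B →ₐ[k] C) (φ : H →ₗ[k] C) :
    evl ρ φ (un c b) = ∑ i, ρ (b i) * φ (c i) := by
  rw [un, map_sum]
  rfl

variable {R : Type u} [CommRing R] [Algebra k R]

/-- the universal character over `R`. -/
def uniR (R : Type u) [CommRing R] [Algebra k R] {V : Submodule k H} {n : ℕ} (c : Module.Basis (Fin n) k V)
    {B : Type u} [CommRing B] [Algebra k B] (b : Module.Basis (Fin n) k B) : (R ⊗[k] B) ⊗[k] H :=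
  mp Algebra.TensorProduct.includeRight (un c b)

omit [IsCocomm k H] in
theorem isChar_uniR (h : IsUn c b) : IsChar (uniR R c b) := h.1.map _

omit [IsCocomm k H] in
theorem uniR_eq : uniR R c b = ∑ i, ((1 : R) ⊗ₜ[k] b i) ⊗ₜ (c i : H) := by
  rw [uniR, un, map_sum]
  rfl

omit [IsCocomm k H] in
theorem uniR_mem : uniR R c b ∈ LinearMap.range (V.subtype.lTensor (R ⊗[k] B)) := by
  rw [uniR_eq]
  exact Submodule.sum_mem _ fun i _ => ⟨_ ⊗ₜ c i, rfl⟩

omit [IsCocomm k H] in
theorem evl_uniR (φ : H →ₗ[k] R) :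
    evl (AlgHom.id k (R ⊗[k] B)) ((Algebra.TensorProduct.includeLeft : R →ₐ[k] R ⊗[k] B).toLinearMap ∘ₗ φ)
      (uniR R c b) = ∑ i, φ (c i) ⊗ₜ[k] b i := by
  rw [uniR_eq, map_sum]
  refine Finset.sum_congr rfl fun i _ => ?_
  rw [evl_tmul]
  change ((1 : R) ⊗ₜ[k] b i) * (φ (c i) ⊗ₜ[k] 1) = _
  rw [Algebra.TensorProduct.tmul_mul_tmul, one_mul, mul_one]

omit [IsCocomm k H] in
theorem sum_tmul_injective {M : Type u} [AddCommGroup M] [Module k M] {n : ℕ} (b : Module.Basis (Fin n) k M)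
    {R : Type u} [AddCommGroup R] [Module k R]
    {l l' : Fin n → R} (h : ∑ i, l i ⊗ₜ[k] b i = ∑ i, l' i ⊗ₜ[k] b i) : l = l' := by
  have h1 := congrArg (TensorProduct.equivFinsuppOfBasisRight (M := R) b) h
  have h2 : ∀ l : Fin n → R, ∀ j, TensorProduct.equivFinsuppOfBasisRight (M := R) b (∑ i, l i ⊗ₜ[k] b i) j = l j := by
    intro l j
    rw [map_sum, Finsupp.finsetSum_apply, Finset.sum_eq_single j]
    · rw [TensorProduct.equivFinsuppOfBasisRight_apply_tmul_apply, Module.Basis.repr_self, Finsupp.single_eq_same,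
        one_smul]
    · intro i _ hi
      rw [TensorProduct.equivFinsuppOfBasisRight_apply_tmul_apply, Module.Basis.repr_self,
        Finsupp.single_eq_of_ne (Ne.symm hi), zero_smul]
    · intro h
      exact absurd (Finset.mem_univ j) h
  funext j
  rw [← h2 l j, h1, h2]

omit [IsCocomm k H] in
theorem exists_sum {M : Type u} [AddCommGroup M] [Module k M] {n : ℕ} (b : Module.Basis (Fin n) k M)
    {R : Type u} [AddCommGroup R] [Module k R] (t : R ⊗[k] M) : ∃ l : Fin n → R, t = ∑ i, l i ⊗ₜ[k] b i := by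
  induction t using TensorProduct.induction_on with
  | zero => exact ⟨0, by simp⟩
  | add s t hs ht =>
    obtain ⟨γ, hγ⟩ := hs
    obtain ⟨δ, hδ⟩ := ht
    refine ⟨γ + δ, ?_⟩
    rw [hγ, hδ, ← Finset.sum_add_distrib]
    simp only [Pi.add_apply, add_tmul]
  | tmul a v =>
    refine ⟨fun i => b.repr v i • a, ?_⟩
    conv_lhs => rw [← b.sum_repr v]
    rw [TensorProduct.tmul_sum]
    refine Finset.sum_congr rfl fun i _ => ?_
    rw [← TensorProduct.smul_tmul]

omit [IsCocomm k H] in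
/-- functionals are determined on `V` by their values on the universal character. -/
theorem eq_on_of_evl (φ ψ : H →ₗ[k] R)
    (h : evl (AlgHom.id k (R ⊗[k] B)) ((Algebra.TensorProduct.includeLeft : R →ₐ[k] R ⊗[k] B).toLinearMap ∘ₗ φ)
      (uniR R c b) = evl (AlgHom.id k (R ⊗[k] B))
        ((Algebra.TensorProduct.includeLeft : R →ₐ[k] R ⊗[k] B).toLinearMap ∘ₗ ψ) (uniR R c b)) :
    ∀ v ∈ V, φ v = ψ v := by
  rw [evl_uniR, evl_uniR] at h
  have h1 := sum_tmul_injective b h
  intro v hv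
  have h2 : φ ∘ₗ V.subtype = ψ ∘ₗ V.subtype := c.ext fun i => congrFun h1 i
  exact LinearMap.congr_fun h2 ⟨v, hv⟩

/-- Points are separated by characters. -/
theorem eq_of_evl (x y : H →ₐ[k] R)
    (h : ∀ (B : Type u) [CommRing B] [Algebra k B] (ρ : R →ₐ[k] B) (w : B ⊗[k] H), IsChar w →
      evl (AlgHom.id k B) (ρ.comp x).toLinearMap w = evl (AlgHom.id k B) (ρ.comp y).toLinearMap w) : x = y := by
  ext v
  obtain ⟨V, hV, hv⟩ := exists_good (k := k) v
  obtain ⟨n, c, B, _, _, b, hb⟩ := exists_un hV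
  exact eq_on_of_evl c b x.toLinearMap y.toLinearMap (h _ _ _ (isChar_uniR c b hb)) v hv

end sep

theorem sum_mul_sum_comm {A : Type u} [CommRing A] {n m : ℕ} (f : Fin n → A) (g : Fin m → A) :
    (∑ i, f i) * ∑ j, g j = ∑ j, ∑ i, f i * g j := by
  rw [Finset.sum_mul_sum, Finset.sum_comm]

section dd

variable {R : Type u} [CommRing R] [Algebra k R]
  (Ψ : ∀ (B : Type u) [CommRing B] [Algebra k B] (_ : R →ₐ[k] B), B ⊗[k] H → B)
  (hnat : ∀ (B B' : Type u) [CommRing B] [Algebra k B] [CommRing B'] [Algebra k B'] (ρ : R →ₐ[k] B)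
    (σ : B →ₐ[k] B') (w : B ⊗[k] H), IsChar w → Ψ B' (σ.comp ρ) (mp σ w) = σ (Ψ B ρ w))
  (hone : Ψ R (AlgHom.id k R) 1 = 1)
  (hmul : ∀ (B : Type u) [CommRing B] [Algebra k B] (ρ : R →ₐ[k] B) (w w' : B ⊗[k] H), IsChar w → IsChar w' →
    Ψ B ρ (w * w') = Ψ B ρ w * Ψ B ρ w')

/-- `φ` computes `Ψ` on characters with coefficients in `V`. -/
def P (V : Submodule k H) (φ : H →ₗ[k] R) : Prop :=
  ∀ (B : Type u) [CommRing B] [Algebra k B] (ρ : R →ₐ[k] B) (w : B ⊗[k] H), IsChar w →
    w ∈ LinearMap.range (V.subtype.lTensor B) → Ψ B ρ w = evl (AlgHom.id k B) (ρ.toLinearMap ∘ₗ φ) w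

omit [IsCocomm k H] in
theorem P_mono {V W : Submodule k H} (h : V ≤ W) {φ : H →ₗ[k] R} (hφ : P Ψ W φ) : P Ψ V φ :=
  fun B _ _ ρ w hw hV => hφ B ρ w hw (range_mono h hV)

omit [IsCocomm k H] in
theorem P_congr {V : Submodule k H} {φ ψ : H →ₗ[k] R} (hφ : P Ψ V φ) (h : ∀ v ∈ V, φ v = ψ v) : P Ψ V ψ := by
  intro B _ _ ρ w hw hV
  rw [hφ B ρ w hw hV]
  obtain ⟨t, rfl⟩ := hV
  clear hw
  induction t using TensorProduct.induction_on with
  | zero => simp
  | add s t hs ht => rw [map_add, map_add, map_add, hs, ht]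
  | tmul a v =>
    rw [LinearMap.lTensor_tmul, evl_tmul, evl_tmul]
    simp only [LinearMap.comp_apply, Submodule.subtype_apply]
    rw [h v v.2]

include hnat in
theorem exists_P {V : Submodule k H} (hV : Good V) : ∃ φ : H →ₗ[k] R, P Ψ V φ := by
  obtain ⟨n, c, B0, _, _, b, hb⟩ := exists_un hV
  let q : R ⊗[k] B0 := Ψ (R ⊗[k] B0) Algebra.TensorProduct.includeLeft (uniR R c b)
  obtain ⟨l, hl⟩ : ∃ l : Fin n → R, q = ∑ i, l i ⊗ₜ[k] b i := exists_sum b q
  obtain ⟨φ, hφ⟩ := LinearMap.exists_extend (c.constr k l)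
  have hφc : ∀ i, φ (c i) = l i := fun i => by
    have h1 := LinearMap.congr_fun hφ (c i)
    rw [Module.Basis.constr_basis] at h1
    exact h1
  refine ⟨φ, ?_⟩
  intro B _ _ ρ w hw hmem
  obtain ⟨σ, hσ⟩ := hb.2 B w hw hmem
  let τ : R ⊗[k] B0 →ₐ[k] B := Algebra.TensorProduct.lift ρ σ (fun _ _ => Commute.all _ _)
  have e1 : τ.comp Algebra.TensorProduct.includeLeft = ρ := by
    ext r
    change τ (r ⊗ₜ 1) = ρ r
    rw [Algebra.TensorProduct.lift_tmul, map_one, mul_one]
  have e2 : τ.comp Algebra.TensorProduct.includeRight = σ := by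
    ext r
    change τ (1 ⊗ₜ r) = σ r
    rw [Algebra.TensorProduct.lift_tmul, map_one, one_mul]
  have e3 : mp τ (uniR R c b) = w := by
    rw [← hσ, ← e2, uniR]
    have h1 : ∀ z : B0 ⊗[k] H, mp τ (mp Algebra.TensorProduct.includeRight z) =
        mp (τ.comp Algebra.TensorProduct.includeRight) z := by
      intro z
      induction z using TensorProduct.induction_on with
      | zero => simp
      | add s t hs ht => rw [map_add, map_add, map_add, hs, ht]
      | tmul a b => rfl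
    exact h1 _
  have h4 := hnat _ _ Algebra.TensorProduct.includeLeft τ (uniR R c b) (isChar_uniR c b hb)
  rw [e1, e3] at h4
  rw [h4]
  change τ q = _
  rw [hl, map_sum, ← hσ, evl_mp, evl_un]
  refine Finset.sum_congr rfl fun i _ => ?_
  rw [Algebra.TensorProduct.lift_tmul, mul_comm, LinearMap.comp_apply, hφc]
  rfl

theorem P_unique {V : Submodule k H} (hV : Good V) {φ ψ : H →ₗ[k] R} (hφ : P Ψ V φ) (hψ : P Ψ V ψ) :
    ∀ v ∈ V, φ v = ψ v := by
  obtain ⟨n, c, B0, _, _, b, hb⟩ := exists_un hV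
  refine eq_on_of_evl c b φ ψ ?_
  rw [← hφ _ _ _ (isChar_uniR c b hb) (uniR_mem c b), ← hψ _ _ _ (isChar_uniR c b hb) (uniR_mem c b)]

include hnat in
theorem exists_P_all : ∃ φ : H →ₗ[k] R, ∀ V, Good V → P Ψ V φ := by
  choose V hV hhV using fun h : H => exists_good (k := k) h
  choose φ hφ using fun h : H => exists_P Ψ hnat (hV h)
  have key : ∀ (W : Submodule k H) (hW : Good W) (ψ : H →ₗ[k] R) (hψ : P Ψ W ψ) (h : H), h ∈ W → φ h h = ψ h := by
    intro W hW ψ hψ h hh
    obtain ⟨χ, hχ⟩ := exists_P Ψ hnat (hW.sup (hV h))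
    rw [P_unique Ψ hW hψ (P_mono Ψ le_sup_left hχ) h hh,
      P_unique Ψ (hV h) (hφ h) (P_mono Ψ le_sup_right hχ) h (hhV h)]
  let F : H →ₗ[k] R :=
    { toFun := fun h => φ h h
      map_add' := fun a b => by
        obtain ⟨χ, hχ⟩ := exists_P Ψ hnat ((hV a).sup (hV b))
        have ha : a ∈ V a ⊔ V b := Submodule.mem_sup_left (hhV a)
        have hb : b ∈ V a ⊔ V b := Submodule.mem_sup_right (hhV b)
        rw [key _ ((hV a).sup (hV b)) χ hχ _ (Submodule.add_mem _ ha hb),
          key _ ((hV a).sup (hV b)) χ hχ _ ha, key _ ((hV a).sup (hV b)) χ hχ _ hb, map_add]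
      map_smul' := fun r a => by
        rw [key _ (hV a) (φ a) (hφ a) _ (Submodule.smul_mem _ r (hhV a)), map_smul]
        rfl }
  refine ⟨F, fun W hW => ?_⟩
  obtain ⟨ψ, hψ⟩ := exists_P Ψ hnat hW
  exact P_congr Ψ hψ (fun v hv => (key W hW ψ hψ v hv).symm)

include hnat hone hmul in
/-- A natural multiplicative function on characters is the evaluation at a point. -/
theorem exists_eval : ∃ a : H →ₐ[k] R, ∀ (B : Type u) [CommRing B] [Algebra k B] (ρ : R →ₐ[k] B) (w : B ⊗[k] H),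
    IsChar w → Ψ B ρ w = evl (AlgHom.id k B) (ρ.comp a).toLinearMap w := by
  obtain ⟨φ, hφ⟩ := exists_P_all Ψ hnat
  have hall : ∀ (B : Type u) [CommRing B] [Algebra k B] (ρ : R →ₐ[k] B) (w : B ⊗[k] H),
      IsChar w → Ψ B ρ w = evl (AlgHom.id k B) (ρ.toLinearMap ∘ₗ φ) w := by
    intro B _ _ ρ w hw
    obtain ⟨V, hV, hmem⟩ := exists_good_tensor w
    exact hφ V hV B ρ w hw hmem
  have h1 : φ 1 = 1 := by
    have h2 := hall R (AlgHom.id k R) 1 isChar_one
    rw [hone, Algebra.TensorProduct.one_def, evl_tmul, map_one, one_mul] at h2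
    exact h2.symm
  have h2 : ∀ a b, φ (a * b) = φ a * φ b := by
    intro x y
    obtain ⟨V, hV, hx⟩ := exists_good (k := k) x
    obtain ⟨W, hW, hy⟩ := exists_good (k := k) y
    obtain ⟨n, c, B1, _, _, b, hb⟩ := exists_un hV
    obtain ⟨m, d, B2, _, _, e, he⟩ := exists_un hW
    let ρ : R →ₐ[k] (R ⊗[k] B1) ⊗[k] B2 :=
      (Algebra.TensorProduct.includeLeft : R ⊗[k] B1 →ₐ[k] (R ⊗[k] B1) ⊗[k] B2).comp Algebra.TensorProduct.includeLeft
    let w : ((R ⊗[k] B1) ⊗[k] B2) ⊗[k] H := mp Algebra.TensorProduct.includeLeft (uniR R c b)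
    let w' : ((R ⊗[k] B1) ⊗[k] B2) ⊗[k] H := mp Algebra.TensorProduct.includeRight (un d e)
    have hw : IsChar w := (isChar_uniR c b hb).map _
    have hw' : IsChar w' := he.1.map _
    have h3 := hmul _ ρ w w' hw hw'
    rw [hall _ ρ _ (hw.mul hw'), hall _ ρ _ hw, hall _ ρ _ hw'] at h3
    have ew : w = ∑ i, (((1 : R) ⊗ₜ[k] b i) ⊗ₜ[k] (1 : B2)) ⊗ₜ (c i : H) := by
      simp only [w]
      rw [uniR_eq, map_sum]
      rfl
    have ew' : w' = ∑ j, (((1 : R ⊗[k] B1)) ⊗ₜ[k] e j) ⊗ₜ (d j : H) := by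
      simp only [w']
      rw [un, map_sum]
      rfl
    have hρ : ∀ r : R, ρ r = ((r ⊗ₜ[k] (1 : B1)) ⊗ₜ[k] (1 : B2)) := fun r => rfl
    have hl : evl (AlgHom.id k _) (ρ.toLinearMap ∘ₗ φ) (w * w') =
        ∑ j, (∑ i, φ ((c i : H) * (d j : H)) ⊗ₜ[k] b i) ⊗ₜ[k] e j := by
      have e0 : w * w' = ∑ j, ∑ i, ((((1 : R) ⊗ₜ[k] b i) ⊗ₜ[k] (1 : B2)) ⊗ₜ[k] (c i : H)) *
          (((1 : R ⊗[k] B1) ⊗ₜ[k] e j) ⊗ₜ[k] (d j : H)) := by
        rw [ew, ew']
        exact sum_mul_sum_comm (A := ((R ⊗[k] B1) ⊗[k] B2) ⊗[k] H) _ _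
      rw [e0, map_sum]
      refine Finset.sum_congr rfl fun j _ => ?_
      rw [map_sum, TensorProduct.sum_tmul]
      refine Finset.sum_congr rfl fun i _ => ?_
      rw [Algebra.TensorProduct.tmul_mul_tmul, evl_tmul, LinearMap.comp_apply]
      change (((1 : R) ⊗ₜ[k] b i) ⊗ₜ[k] (1 : B2) * ((1 : R ⊗[k] B1) ⊗ₜ[k] e j)) * ρ (φ ((c i : H) * (d j : H))) = _
      rw [hρ]
      simp only [Algebra.TensorProduct.tmul_mul_tmul, mul_one, one_mul]
    have hr : evl (AlgHom.id k _) (ρ.toLinearMap ∘ₗ φ) w * evl (AlgHom.id k _) (ρ.toLinearMap ∘ₗ φ) w' =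
        ∑ j, (∑ i, (φ (c i : H) * φ (d j : H)) ⊗ₜ[k] b i) ⊗ₜ[k] e j := by
      rw [ew, ew', map_sum, map_sum, Finset.sum_mul_sum, Finset.sum_comm]
      refine Finset.sum_congr rfl fun j _ => ?_
      rw [TensorProduct.sum_tmul]
      refine Finset.sum_congr rfl fun i _ => ?_
      rw [evl_tmul, evl_tmul, LinearMap.comp_apply, LinearMap.comp_apply]
      change (((1 : R) ⊗ₜ[k] b i) ⊗ₜ[k] (1 : B2) * ρ (φ (c i : H))) *
        (((1 : R ⊗[k] B1)) ⊗ₜ[k] e j * ρ (φ (d j : H))) = _
      rw [hρ, hρ]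
      simp only [Algebra.TensorProduct.tmul_mul_tmul, mul_one, one_mul]
    rw [hl, hr] at h3
    have h4 : ∀ j i, φ ((c i : H) * (d j : H)) = φ (c i : H) * φ (d j : H) := by
      intro j i
      have h7 := congrFun (sum_tmul_injective e h3) j
      exact congrFun (sum_tmul_injective b h7) i
    have h8 : (φ ∘ₗ LinearMap.mul' k H) ∘ₗ TensorProduct.map V.subtype W.subtype =
        LinearMap.mul' k R ∘ₗ TensorProduct.map (φ ∘ₗ V.subtype) (φ ∘ₗ W.subtype) := by
      apply (c.tensorProduct d).ext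
      rintro ⟨i, j⟩
      rw [Module.Basis.tensorProduct_apply]
      exact h4 j i
    exact LinearMap.congr_fun h8 ((⟨x, hx⟩ : V) ⊗ₜ (⟨y, hy⟩ : W))
  exact ⟨AlgHom.ofLinearMap φ h1 h2, hall⟩

end dd

end K789.DDAlg
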