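import Groth.Agent.GmDual.K789.GChar
import Groth.Agent.GmDual.K789.DD
import Groth.Agent.GmDual.K778.DblSeq

/-!
# The double dual of an affine commutative group over a field

For every affine commutative group scheme `G` over a field the double duality map of its fppf sheaf of points is an
isomorphism (`isIso_toDoubleDual`).
-/

set_option autoImplicit false
universe u
open CategoryTheory CategoryTheory.Limits MonoidalCategory CartesianMonoidalCategory MonObj GrpObj AlgebraicGeometry Opposite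

noncomputable section

namespace K789.DoubleDual

open Groth.Agent.Books.AffBridge Groth.Agent.Etdl.H432.Sec K771.HomEv K771.Pts K771.Aff WithConv TensorProduct
open K778.CharDict (Bs)
open K789.DDAlg K789.GPts K789.GChar

attribute [local instance] algO

variable {k : Type u} [Field k] {H : Type u} [CommRing H] [HopfAlgebra k H] [IsCommMonObj (SpecOver k H)]

variable (k H) in
/-- The bidual map. -/
abbrev bid : Pt k H ⟶ hom (Dl k H) (Gm (Bs k)) := HomSh.bidualMap (EtFppf.J (Bs k)) (Pt k H) (Gm (Bs k))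

variable {T : Over (Bs k)} [IsAffine T.left]

omit [IsAffine T.left] in
theorem gm_bid (s : Γs (Pt k H) T) {W : Over (Bs k)} [IsAffine W.left] (h : W ⟶ T) (φ : Γs (Dl k H) W) :
    gm (ev (m (bid k H) T s) h φ) = evl (AlgHom.id k (O W)) ((roA h).comp (ap s)).toLinearMap (poly φ) := by
  rw [ev_bidual, gm_ev, val, ap_r, roA_id]

/-- The character over `aff ρ` given by `w : B ⊗ H`. -/
def chr {B : Type u} [CommRing B] [Algebra k B] (ρ : O T →ₐ[k] B) (w : B ⊗[k] H) (hw : IsChar w) :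
    Γs (Dl k H) (aff (ρ : O T →+* B)) :=
  ofChar (mp (eA ρ : B →ₐ[k] O (aff (ρ : O T →+* B))) w) (hw.map _)

theorem gm_bid_chr (s : Γs (Pt k H) T) {B : Type u} [CommRing B] [Algebra k B] (ρ : O T →ₐ[k] B) (w : B ⊗[k] H)
    (hw : IsChar w) :
    gm (ev (m (bid k H) T s) (π (ρ : O T →+* B)) (chr ρ w hw)) =
      eA ρ (evl (AlgHom.id k B) (ρ.comp (ap s)).toLinearMap w) := by
  rw [gm_bid, chr, poly_ofChar, evl_mp, roA_π]
  exact evl_comp (eA ρ : B →ₐ[k] O (aff (ρ : O T →+* B))) (AlgHom.id k B) (ρ.comp (ap s)).toLinearMap w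

theorem injective : Function.Injective (m (bid k H) T) := by
  have hc : Coalgebra.IsCocomm k H := K778.CharDict.isCocomm_of_isCommMonObj
  intro s t hst
  apply ap_injective
  refine eq_of_evl _ _ fun B _ _ ρ w hw => ?_
  apply (eA ρ).injective
  rw [← gm_bid_chr s ρ w hw, ← gm_bid_chr t ρ w hw, hst]

open Classical in
/-- The function on characters attached to a section of the double dual. -/
def psi (Ψ : Γs (hom (Dl k H) (Gm (Bs k))) T) (B : Type u) [CommRing B] [Algebra k B] (ρ : O T →ₐ[k] B)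
    (w : B ⊗[k] H) : B :=
  if hw : IsChar w then (eA ρ).symm (gm (ev Ψ (π (ρ : O T →+* B)) (chr ρ w hw))) else 0

theorem e_psi (Ψ : Γs (hom (Dl k H) (Gm (Bs k))) T) (B : Type u) [CommRing B] [Algebra k B] (ρ : O T →ₐ[k] B)
    (w : B ⊗[k] H) (hw : IsChar w) :
    eA ρ (psi Ψ B ρ w) = gm (ev Ψ (π (ρ : O T →+* B)) (chr ρ w hw)) := by
  rw [psi, dif_pos hw, AlgEquiv.apply_symm_apply]

theorem gm_ev_psi (Ψ : Γs (hom (Dl k H) (Gm (Bs k))) T) (B : Type u) [CommRing B] [Algebra k B] (ρ : O T →ₐ[k] B)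
    (w : B ⊗[k] H) (hw : IsChar w) {W : Over (Bs k)} [IsAffine W.left] (h : W ⟶ T) (σ : B →ₐ[k] O W)
    (hσ : σ.comp ρ = roA h) :
    gm (ev Ψ h (ofChar (mp σ w) (hw.map _))) = σ (psi Ψ B ρ w) := by
  obtain ⟨l, hl, hl2⟩ := exists_homA ρ h σ hσ
  have h1 : σ (psi Ψ B ρ w) = ro l (eA ρ (psi Ψ B ρ w)) := (DFunLike.congr_fun hl2 _).symm
  rw [h1, e_psi Ψ B ρ w hw, ← gm_r, ev_r', chr, r_ofChar, hl]
  congr 2
  apply poly_injective
  rw [poly_ofChar, poly_ofChar, ← hl2]
  have h2 : ∀ w : B ⊗[k] H, mp ((roA l).comp (eA ρ : B →ₐ[k] O (aff (ρ : O T →+* B)))) w =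
      mp (roA l) (mp (eA ρ : B →ₐ[k] O (aff (ρ : O T →+* B))) w) := by
    intro w
    induction w using TensorProduct.induction_on with
    | zero => simp
    | add s t hs ht => rw [map_add, map_add, map_add, hs, ht]
    | tmul a b => rfl
  exact h2 w

omit [IsCommMonObj (SpecOver k H)] in
theorem mp_mp {A B C : Type u} [CommRing A] [Algebra k A] [CommRing B] [Algebra k B] [CommRing C] [Algebra k C]
    (σ : B →ₐ[k] C) (ρ : A →ₐ[k] B) (w : A ⊗[k] H) : mp σ (mp ρ w) = mp (σ.comp ρ) w := by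
  induction w using TensorProduct.induction_on with
  | zero => simp
  | add s t hs ht => rw [map_add, map_add, map_add, hs, ht]
  | tmul a b => rfl

omit [IsCommMonObj (SpecOver k H)] in
theorem mp_id {A : Type u} [CommRing A] [Algebra k A] (w : A ⊗[k] H) : mp (AlgHom.id k A) w = w := by
  induction w using TensorProduct.induction_on with
  | zero => simp
  | add s t hs ht => rw [map_add, hs, ht]
  | tmul a b => rfl

theorem surjective : Function.Surjective (m (bid k H) T) := by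
  have hc : Coalgebra.IsCocomm k H := K778.CharDict.isCocomm_of_isCommMonObj
  intro Ψ
  obtain ⟨a, ha⟩ := exists_eval (psi Ψ) (by
    intro B B' _ _ _ _ ρ σ w hw
    apply (eA (σ.comp ρ)).injective
    rw [e_psi _ _ _ _ (hw.map σ)]
    have h1 := gm_ev_psi Ψ B ρ w hw (π ((σ.comp ρ : O T →ₐ[k] B') : O T →+* B'))
      ((eA (σ.comp ρ) : B' →ₐ[k] O (aff ((σ.comp ρ : O T →ₐ[k] B') : O T →+* B'))).comp σ)
      (by rw [roA_π, AlgHom.comp_assoc])
    refine Eq.trans ?_ h1
    congr 2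
    exact ofChar_congr (mp_mp _ _ _) _ _) (by
    apply (eA (AlgHom.id k (O T))).injective
    rw [e_psi _ _ _ _ isChar_one, map_one]
    have h1 : chr (AlgHom.id k (O T)) (1 : O T ⊗[k] H) isChar_one = 0 := by
      rw [← ofChar_one]
      exact ofChar_congr (map_one _) _ _
    rw [h1, map_zero, gm_zero]) (by
    intro B _ _ ρ w w' hw hw'
    apply (eA ρ).injective
    rw [e_psi _ _ _ _ (hw.mul hw'), map_mul, e_psi _ _ _ _ hw, e_psi _ _ _ _ hw', ← gm_add, ← map_add]
    congr 2
    rw [chr, chr, chr, ← ofChar_mul]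
    exact ofChar_congr (map_mul _ _ _) _ _)
  refine ⟨aps a, ev_ext fun W h φ => ?_⟩
  refine K771.AffLocal.eq_of_affine (Gm (Bs k)) _ _ fun V g hV => gm_injective ?_
  rw [ev_r', ev_r', gm_bid, ap_aps]
  have h1 := gm_ev_psi Ψ (O V) (roA (g ≫ h)) (poly (r (Dl k H) g φ)) (isChar_poly _) (g ≫ h) (AlgHom.id k _)
    (AlgHom.id_comp _)
  rw [ha _ _ _ (isChar_poly _)] at h1
  refine Eq.trans ?_ (h1.symm.trans ?_)
  · rfl
  · congr 2
    refine Eq.trans (ofChar_congr (mp_id _) _ (isChar_poly _)) (ofChar_poly _)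

variable (k H) in
/-- The double duality map of the spectrum of a Hopf algebra over a field. -/
theorem isIso_bid : IsIso (bid k H) :=
  K771.AffLocal.isIso_of_affine _ fun _ _ => ⟨injective, surjective⟩

section transfer

variable {X : Scheme.{u}}

theorem isIso_homShMap {F F' G G' : EtFppf.AbF X} (α : F' ⟶ F) (β : G ⟶ G') [IsIso α] [IsIso β] :
    IsIso (HomSh.homShMap (EtFppf.J X) α β) := by
  refine ⟨HomSh.homShMap (EtFppf.J X) (inv α) (inv β), ?_, ?_⟩
  · rw [← HomSh.homShMap_comp, IsIso.inv_hom_id, IsIso.hom_inv_id, HomSh.homShMap_id]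
  · rw [← HomSh.homShMap_comp, IsIso.hom_inv_id, IsIso.inv_hom_id, HomSh.homShMap_id]

theorem isIso_bidual_of_iso {F F' : EtFppf.AbF X} (α : F ⟶ F') [IsIso α] (M : EtFppf.AbF X)
    (h : IsIso (HomSh.bidualMap (EtFppf.J X) F' M)) : IsIso (HomSh.bidualMap (EtFppf.J X) F M) := by
  have h1 := K778.DblSeq.bidual_natural (EtFppf.J X) α M
  have h2 : IsIso (HomSh.homShMap (EtFppf.J X) α (𝟙 M)) := isIso_homShMap _ _
  have h3 : IsIso (HomSh.homShMap (EtFppf.J X) (HomSh.homShMap (EtFppf.J X) α (𝟙 M)) (𝟙 M)) := isIso_homShMap _ _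
  have h4 : IsIso (HomSh.bidualMap (EtFppf.J X) F M ≫
      HomSh.homShMap (EtFppf.J X) (HomSh.homShMap (EtFppf.J X) α (𝟙 M)) (𝟙 M)) := by
    rw [← h1]
    infer_instance
  exact IsIso.of_isIso_comp_right _ (HomSh.homShMap (EtFppf.J X) (HomSh.homShMap (EtFppf.J X) α (𝟙 M)) (𝟙 M))

end transfer

/-- The double duality map of an affine commutative group over a field is an isomorphism. -/
theorem isIso_toDoubleDual (k : Type u) [Field k] (G : Over (Spec (CommRingCat.of k))) [GrpObj G] [IsCommMonObj G]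
    [IsAffine G.left] : IsIso (CGrpSh2.toDoubleDual Scheme.fppfPrecoverage (CGrpSh.pts Scheme.fppfPrecoverage G)) := by
  obtain ⟨A, _, _, e, he⟩ := exists_hopf k G
  have he' : IsMonHom e.inv := inferInstance
  have hc : IsCommMonObj (SpecOver k A) := K778.CharDict.isCommMonObj_of_mono e.inv
  have h1 : IsIso (CGrpSh.ptsMap Scheme.fppfPrecoverage e.hom) := by
    refine ⟨CGrpSh.ptsMap Scheme.fppfPrecoverage e.inv, ?_, ?_⟩
    · rw [← CGrpSh.ptsMap_comp]
      simp only [Iso.hom_inv_id]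
      exact CGrpSh.ptsMap_id _
    · rw [← CGrpSh.ptsMap_comp]
      simp only [Iso.inv_hom_id]
      exact CGrpSh.ptsMap_id _
  exact isIso_bidual_of_iso (CGrpSh.ptsMap Scheme.fppfPrecoverage e.hom) (Gm (Bs k)) (isIso_bid k A)

end K789.DoubleDual
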