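import Groth.Agent.GmDual.K789.GPts
import Groth.Agent.GaDual.K771.AffLocal

/-!
# The dual sheaf of an affine group over an affine object

For `T` affine over `Spec k`, sections over `T` of `𝓗om(pts (Spec H), 𝔾_m)` are the characters `w ∈ O T ⊗ H`:
`poly φ`, `ofChar w hw`, `gm_ev`.
-/

set_option autoImplicit false
universe u
open CategoryTheory CategoryTheory.Limits MonoidalCategory CartesianMonoidalCategory MonObj GrpObj AlgebraicGeometry Opposite

noncomputable section

namespace K789.GChar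

open Groth.Agent.Books.AffBridge Groth.Agent.Etdl.H432.Sec K771.HomEv K771.Pts K771.Aff WithConv TensorProduct
open K778.CharDict (Bs)
open K789.DDAlg K789.GPts

attribute [local instance] algO

variable {k : Type u} [CommRing k] {H : Type u} [CommRing H] [HopfAlgebra k H] [IsCommMonObj (SpecOver k H)]
  {T : Over (Bs k)}

variable (k H) in
/-- The dual sheaf. -/
abbrev Dl : EtFppf.AbF (Bs k) := hom (Pt k H) (Gm (Bs k))

/-- The value at a section. -/
def val (w : O T ⊗[k] H) {W : Over (Bs k)} (h : W ⟶ T) (y : Γs (Pt k H) W) : O W :=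
  evl (roA h) (ap y).toLinearMap w

theorem val_add {w : O T ⊗[k] H} (hw : IsChar w) {W : Over (Bs k)} (h : W ⟶ T) (y y' : Γs (Pt k H) W) :
    val w h (y + y') = val w h y * val w h y' := by
  rw [val, ap_add, hw.2]
  rfl

theorem val_zero {w : O T ⊗[k] H} (hw : IsChar w) {W : Over (Bs k)} (h : W ⟶ T) :
    val w h (0 : Γs (Pt k H) W) = 1 := by
  rw [val, ap_zero, hw.1]

theorem val_mul (w w' : O T ⊗[k] H) {W : Over (Bs k)} (h : W ⟶ T) (y : Γs (Pt k H) W) :
    val (w * w') h y = val w h y * val w' h y := evl_mul _ _ _ _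

theorem val_one {W : Over (Bs k)} (h : W ⟶ T) (y : Γs (Pt k H) W) :
    val (1 : O T ⊗[k] H) h y = 1 := evl_one _ _

theorem ro_val (w : O T ⊗[k] H) {W W' : Over (Bs k)} (h : W ⟶ T) (g : W' ⟶ W) (y : Γs (Pt k H) W) :
    ro g (val w h y) = val w (g ≫ h) (r (Pt k H) g y) := by
  rw [val, val, ap_r, ← roA_comp]
  exact (evl_comp (roA g) (roA h) (ap y).toLinearMap w).symm

theorem val_mp (w : O T ⊗[k] H) {W V : Over (Bs k)} (g : V ⟶ T) (h : W ⟶ V) (y : Γs (Pt k H) W) :
    val (mp (roA g) w) h y = val w (h ≫ g) y := by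
  rw [val, val, evl_mp, roA_comp]

section of

variable (w : O T ⊗[k] H) (hw : IsChar w)

/-- Characters from elements of `O T ⊗ H`: the value at a section. -/
def ofCharAt (W : Over (Bs k)) (h : W ⟶ T) (y : Γs (Pt k H) W) : Γs (Gm (Bs k)) W :=
  gms ⟨val w h y, val w h (-y), by rw [← val_add hw, add_neg_cancel, val_zero hw], by
    rw [← val_add hw, neg_add_cancel, val_zero hw]⟩

theorem gm_ofCharAt (W : Over (Bs k)) (h : W ⟶ T) (y : Γs (Pt k H) W) :
    gm (ofCharAt w hw W h y) = val w h y := gm_gms _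

/-- The section of the dual attached to a character. -/
def ofChar : Γs (Dl k H) T :=
  mk (fun W h =>
    { toFun := ofCharAt w hw W h
      map_zero' := by
        apply gm_injective
        rw [gm_ofCharAt, val_zero hw, gm_zero]
      map_add' := fun y y' => by
        apply gm_injective
        rw [gm_add, gm_ofCharAt, gm_ofCharAt, gm_ofCharAt, val_add hw] })
    (fun W W' h l x => by
      apply gm_injective
      change gm (r (Gm (Bs k)) l (ofCharAt w hw W h x)) = gm (ofCharAt w hw W' (l ≫ h) (r (Pt k H) l x))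
      rw [gm_r, gm_ofCharAt, gm_ofCharAt, ro_val])

theorem gm_ev_ofChar {W : Over (Bs k)} (h : W ⟶ T) (y : Γs (Pt k H) W) :
    gm (ev (ofChar w hw) h y) = val w h y := gm_ofCharAt w hw W h y

end of

section poly

variable [IsAffine T.left]

theorem exists_poly (φ : Γs (Dl k H) T) : ∃ w : O T ⊗[k] H, ∀ (W : Over (Bs k)) (h : W ⟶ T) (y : Γs (Pt k H) W),
    gm (ev φ h y) = val w h y := by
  let α : O T →ₐ[k] O T ⊗[k] H := Algebra.TensorProduct.includeLeft
  let y0 : Γs (Pt k H) (aff (α : O T →+* O T ⊗[k] H)) :=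
    aps ((eA α : O T ⊗[k] H →ₐ[k] O (aff (α : O T →+* O T ⊗[k] H))).comp Algebra.TensorProduct.includeRight)
  refine ⟨(eA α).symm (gm (ev φ (π (α : O T →+* O T ⊗[k] H)) y0)), fun W h y => ?_⟩
  obtain ⟨l, hl, hl2⟩ := exists_homA α h (Algebra.TensorProduct.lift (roA h) (ap y) (fun _ _ => Commute.all _ _))
    (by
      ext x
      refine Eq.trans (Algebra.TensorProduct.lift_tmul (roA h) (ap y) (fun _ _ => Commute.all _ _) x 1) ?_
      rw [map_one, _root_.mul_one])
  have h1 : r (Pt k H) l y0 = y := by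
    apply ap_injective
    rw [ap_r, ap_aps, ← AlgHom.comp_assoc, hl2]
    ext x
    refine Eq.trans (Algebra.TensorProduct.lift_tmul (roA h) (ap y) (fun _ _ => Commute.all _ _) 1 x) ?_
    rw [map_one, _root_.one_mul]
  have h2 := DFunLike.congr_fun hl2 ((eA α).symm (gm (ev φ (π (α : O T →+* O T ⊗[k] H)) y0)))
  rw [val, evl_alg, ← h2]
  change _ = ro l (eA α ((eA α).symm (gm (ev φ (π (α : O T →+* O T ⊗[k] H)) y0))))
  rw [AlgEquiv.apply_symm_apply, ← gm_r, ev_r', h1, hl]

/-- The character of a section of the dual. -/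
def poly (φ : Γs (Dl k H) T) : O T ⊗[k] H := (exists_poly φ).choose

theorem gm_ev (φ : Γs (Dl k H) T) {W : Over (Bs k)} (h : W ⟶ T) (y : Γs (Pt k H) W) :
    gm (ev φ h y) = val (poly φ) h y := (exists_poly φ).choose_spec W h y

/-- The values on relative spectra. -/
theorem val_π {C : Type u} [CommRing C] [Algebra k C] (ρ : O T →ₐ[k] C) (x : H →ₐ[k] C) (w : O T ⊗[k] H) :
    val w (π (ρ : O T →+* C)) (aps ((eA ρ : C →ₐ[k] O (aff (ρ : O T →+* C))).comp x)) =
      eA ρ (evl ρ x.toLinearMap w) := by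
  rw [val, ap_aps, roA_π]
  exact evl_comp (eA ρ : C →ₐ[k] O (aff (ρ : O T →+* C))) ρ x.toLinearMap w

theorem poly_ext {w w' : O T ⊗[k] H}
    (h : ∀ (W : Over (Bs k)) (h : W ⟶ T) (y : Γs (Pt k H) W), val w h y = val w' h y) : w = w' := by
  let α : O T →ₐ[k] O T ⊗[k] H := Algebra.TensorProduct.includeLeft
  have h1 := h _ (π (α : O T →+* O T ⊗[k] H))
    (aps ((eA α : O T ⊗[k] H →ₐ[k] O (aff (α : O T →+* O T ⊗[k] H))).comp Algebra.TensorProduct.includeRight))
  rw [val_π, val_π] at h1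
  have h2 : ∀ w : O T ⊗[k] H, evl α (Algebra.TensorProduct.includeRight : H →ₐ[k] O T ⊗[k] H).toLinearMap w = w := by
    intro w
    induction w using TensorProduct.induction_on with
    | zero => rw [map_zero]
    | add s t hs ht => rw [map_add, hs, ht]
    | tmul a b =>
      rw [evl_tmul]
      change (a ⊗ₜ[k] (1 : H)) * ((1 : O T) ⊗ₜ[k] b) = _
      rw [Algebra.TensorProduct.tmul_mul_tmul, _root_.one_mul, _root_.mul_one]
  have h3 := (eA α).injective h1
  rwa [h2, h2] at h3

theorem isChar_poly (φ : Γs (Dl k H) T) : IsChar (poly φ) := by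
  refine ⟨fun C _ _ ρ => ?_, fun C _ _ ρ x y => ?_⟩
  · apply (eA ρ).injective
    rw [← val_π]
    have h1 : (eA ρ : C →ₐ[k] O (aff (ρ : O T →+* C))).comp (1 : WithConv (H →ₐ[k] C)).ofConv =
        (1 : WithConv (H →ₐ[k] O (aff (ρ : O T →+* C)))).ofConv := by
      ext h
      change eA ρ (algebraMap k C _) = algebraMap k _ _
      exact (eA ρ).commutes _
    rw [h1, aps_one, ← gm_ev, map_zero, gm_zero, map_one]
  · apply (eA ρ).injective
    rw [map_mul, ← val_π, ← val_π, ← val_π, AlgHom.comp_convMul_distrib, aps_mul, ← gm_ev, map_add, gm_add, gm_ev,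
      gm_ev]

theorem poly_eq {φ : Γs (Dl k H) T} {w : O T ⊗[k] H}
    (h : ∀ (W : Over (Bs k)) (h : W ⟶ T) (y : Γs (Pt k H) W), gm (ev φ h y) = val w h y) : poly φ = w := by
  refine poly_ext fun W h' y => ?_
  have h1 := h W h' y
  rwa [gm_ev] at h1

theorem poly_injective : Function.Injective (poly : Γs (Dl k H) T → O T ⊗[k] H) := by
  intro φ ψ h
  refine ev_ext fun W h' y => gm_injective ?_
  rw [gm_ev, gm_ev, h]

theorem poly_ofChar (w : O T ⊗[k] H) (hw : IsChar w) : poly (ofChar w hw) = w :=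
  poly_eq fun _ h y => gm_ev_ofChar w hw h y

theorem ofChar_poly (φ : Γs (Dl k H) T) : ofChar (poly φ) (isChar_poly φ) = φ :=
  poly_injective (poly_ofChar _ _)

theorem poly_zero : poly (0 : Γs (Dl k H) T) = 1 :=
  poly_eq fun W h y => by rw [ev_zero, gm_zero, val_one]

theorem poly_add (φ ψ : Γs (Dl k H) T) : poly (φ + ψ) = poly φ * poly ψ :=
  poly_eq fun W h y => by rw [ev_add, gm_add, gm_ev, gm_ev, val_mul]

theorem poly_r {T' : Over (Bs k)} [IsAffine T'.left] (g : T' ⟶ T) (φ : Γs (Dl k H) T) :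
    poly (r (Dl k H) g φ) = mp (roA g) (poly φ) :=
  poly_eq fun W h y => by
    rw [K771.HomEv.ev_r, gm_ev, val_mp]

theorem r_ofChar {T' : Over (Bs k)} [IsAffine T'.left] (g : T' ⟶ T) (w : O T ⊗[k] H) (hw : IsChar w) :
    r (Dl k H) g (ofChar w hw) = ofChar (mp (roA g) w) (hw.map _) := by
  apply poly_injective
  rw [poly_r, poly_ofChar, poly_ofChar]

omit [IsAffine T.left] in
theorem ofChar_congr {w w' : O T ⊗[k] H} (h : w = w') (hf : IsChar w) (hg : IsChar w') : ofChar w hf = ofChar w' hg := by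
  subst h
  rfl

theorem ofChar_mul (w w' : O T ⊗[k] H) (hf : IsChar w) (hg : IsChar w') :
    ofChar (w * w') (hf.mul hg) = ofChar w hf + ofChar w' hg := by
  apply poly_injective
  rw [poly_ofChar, poly_add, poly_ofChar, poly_ofChar]

theorem ofChar_one : ofChar (1 : O T ⊗[k] H) isChar_one = 0 := by
  apply poly_injective
  rw [poly_ofChar, poly_zero]

end poly

end K789.GChar
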