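import Groth.Agent.GmDual.K778.CharDict
import Groth.Agent.GaDual.K771.HomEv
import Groth.Agent.GaDual.K771.Pts
import Groth.Agent.GaDual.K771.Aff
import Groth.Agent.GmDual.K789.Coalg

/-!
# Sections of the sheaf of points of an affine group as algebra homomorphisms

`T` over `Spec k`: `algO T` makes `O T` a `k`-algebra; `ap s : H →ₐ[k] O T` for a section `s` of `pts (Spec H)`.
-/

set_option autoImplicit false
universe u
open CategoryTheory CategoryTheory.Limits MonoidalCategory CartesianMonoidalCategory MonObj GrpObj AlgebraicGeometry Opposite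

noncomputable section

namespace K789.GPts

open Groth.Agent.Books.AffBridge Groth.Agent.Etdl.H432.Sec K771.HomEv K771.Pts K771.Aff WithConv
open K778.CharDict (Bs)

section alg

variable {k : Type u} [CommRing k]

/-- The structure of `k`-algebra on the functions of a scheme over `Spec k`. -/
@[reducible] def algO (T : Over (Bs k)) : Algebra k (O T) :=
  ((Scheme.ΓSpecIso (CommRingCat.of k)).inv ≫ T.hom.appTop).hom.toAlgebra

attribute [local instance] algO

theorem algO_apply (T : Over (Bs k)) (c : k) :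
    algebraMap k (O T) c = T.hom.appTop.hom ((Scheme.ΓSpecIso (CommRingCat.of k)).inv.hom c) := rfl

theorem ro_alg {U V : Over (Bs k)} (g : V ⟶ U) (c : k) : ro g (algebraMap k (O U) c) = algebraMap k (O V) c := by
  rw [algO_apply, algO_apply]
  have h1 : (g.left ≫ U.hom).appTop = V.hom.appTop := by rw [Over.w g]
  rw [← h1, Scheme.Hom.comp_appTop]
  rfl

/-- Restriction of functions as a map of `k`-algebras. -/
def roA {U V : Over (Bs k)} (g : V ⟶ U) : O U →ₐ[k] O V := { ro g with commutes' := ro_alg g }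

@[simp] theorem roA_apply {U V : Over (Bs k)} (g : V ⟶ U) (x : O U) : roA g x = ro g x := rfl

theorem roA_comp {U V W : Over (Bs k)} (g : V ⟶ U) (h : W ⟶ V) : (roA h).comp (roA g) = roA (h ≫ g) :=
  AlgHom.ext fun x => ro_ro g h x

theorem roA_id (U : Over (Bs k)) : roA (𝟙 U) = AlgHom.id k (O U) := AlgHom.ext fun x => ro_id x

variable {A : Type u} [CommRing A] [Algebra k A]

/-- The morphism to the spectrum of the functions. -/
def can (T : Over (Bs k)) : T ⟶ SpecOver k (O T) :=
  Over.homMk T.left.toSpecΓ (by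
    change T.left.toSpecΓ ≫ Spec.map ((Scheme.ΓSpecIso (CommRingCat.of k)).inv ≫ T.hom.appTop) = T.hom
    refine Groth.Agent.Sga4h.EtSpec.spec_hom_ext _ _ fun x => ?_
    rw [Scheme.Hom.comp_appTop]
    have h2 := congr($((Scheme.ΓSpecIso_inv_naturality ((Scheme.ΓSpecIso (CommRingCat.of k)).inv ≫
      T.hom.appTop)).symm).hom x)
    refine (congrArg T.left.toSpecΓ.appTop.hom h2).trans ?_
    rw [Scheme.toSpecΓ_appTop]
    exact congr($((Scheme.ΓSpecIso Γ(T.left, ⊤)).inv_hom_id).hom _))

/-- The algebra map of a morphism to a spectrum. -/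
def fnl {T : Over (Bs k)} (s : T ⟶ SpecOver k A) : A →ₐ[k] O T where
  __ := ((Scheme.ΓSpecIso (CommRingCat.of A)).inv ≫ s.left.appTop).hom
  commutes' := by
    intro c
    have h1 : (s.left ≫ Spec.map (CommRingCat.ofHom (algebraMap k A))).appTop = T.hom.appTop := by
      rw [← Over.w s]
      rfl
    rw [algO_apply, ← h1, Scheme.Hom.comp_appTop]
    exact congrArg s.left.appTop.hom
      (congr($(Scheme.ΓSpecIso_inv_naturality (CommRingCat.ofHom (algebraMap k A))).hom c))

theorem fnl_apply {T : Over (Bs k)} (s : T ⟶ SpecOver k A) (a : A) :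
    fnl s a = s.left.appTop.hom ((Scheme.ΓSpecIso (CommRingCat.of A)).inv.hom a) := rfl

theorem fnl_injective {T : Over (Bs k)} : Function.Injective (fnl : (T ⟶ SpecOver k A) → _) := by
  intro s t h
  ext : 1
  exact Groth.Agent.Sga4h.EtSpec.spec_hom_ext _ _ fun x => DFunLike.congr_fun h x

theorem fnl_comp {U V : Over (Bs k)} (g : V ⟶ U) (s : U ⟶ SpecOver k A) :
    fnl (g ≫ s) = (roA g).comp (fnl s) := by
  ext a
  rw [fnl_apply, Over.comp_left, Scheme.Hom.comp_appTop]
  rfl

theorem fnl_specMap {B : Type u} [CommRing B] [Algebra k B] {T : Over (Bs k)} (s : T ⟶ SpecOver k B)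
    (f : A →ₐ[k] B) : fnl (s ≫ specMap k f) = (fnl s).comp f := by
  ext a
  rw [fnl_apply, Over.comp_left, Scheme.Hom.comp_appTop]
  exact congrArg s.left.appTop.hom
      (congr($(Scheme.ΓSpecIso_inv_naturality (CommRingCat.ofHom f.toRingHom)).hom a).symm)

theorem fnl_can (T : Over (Bs k)) : fnl (can T) = AlgHom.id k (O T) := by
  ext a
  rw [fnl_apply]
  change T.left.toSpecΓ.appTop.hom _ = a
  rw [Scheme.toSpecΓ_appTop]
  exact congr($((Scheme.ΓSpecIso Γ(T.left, ⊤)).inv_hom_id).hom _)

/-- The morphism to a spectrum given by an algebra map. -/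
def pt {T : Over (Bs k)} (f : A →ₐ[k] O T) : T ⟶ SpecOver k A := can T ≫ specMap k f

@[simp] theorem fnl_pt {T : Over (Bs k)} (f : A →ₐ[k] O T) : fnl (pt f) = f := by
  rw [pt, fnl_specMap, fnl_can, AlgHom.id_comp]

@[simp] theorem pt_fnl {T : Over (Bs k)} (s : T ⟶ SpecOver k A) : pt (fnl s) = s :=
  fnl_injective (fnl_pt _)

end alg

section pts

open TensorProduct

variable {k : Type u} [CommRing k] {H : Type u} [CommRing H] [HopfAlgebra k H]

attribute [local instance] algO

theorem fnl_mul {T : Over (Bs k)} (x y : T ⟶ SpecOver k H) :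
    fnl (x * y) = (toConv (fnl x) * toConv (fnl y)).ofConv := by
  conv_lhs => rw [← pt_fnl x, ← pt_fnl y]
  have h1 : pt (fnl x) * pt (fnl y) = pt (toConv (fnl x) * toConv (fnl y)).ofConv := by
    rw [pt, pt, pt, specMap_mul, MonObj.comp_mul]
  rw [h1, fnl_pt]

theorem fnl_one {T : Over (Bs k)} :
    fnl (1 : T ⟶ SpecOver k H) = (1 : WithConv (H →ₐ[k] O T)).ofConv := by
  have h1 : (1 : T ⟶ SpecOver k H) = pt (1 : WithConv (H →ₐ[k] O T)).ofConv := by
    rw [pt, specMap_one, MonObj.comp_one]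
  rw [h1, fnl_pt]

variable [IsCommMonObj (SpecOver k H)]

variable (k H) in
/-- The sheaf of points of an affine group. -/
abbrev Pt : EtFppf.AbF (Bs k) := CGrpSh.pts Scheme.fppfPrecoverage (SpecOver k H)

/-- The algebra homomorphism of a section of the sheaf of points. -/
def ap {T : Over (Bs k)} (s : Γs (Pt k H) T) : H →ₐ[k] O T := fnl (Additive.toMul (ULift.down s))

/-- The section of the sheaf of points of an algebra homomorphism. -/
def aps {T : Over (Bs k)} (f : H →ₐ[k] O T) : Γs (Pt k H) T := ULift.up (Additive.ofMul (pt f))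

@[simp] theorem ap_aps {T : Over (Bs k)} (f : H →ₐ[k] O T) : ap (aps f) = f := fnl_pt f

theorem ap_injective {T : Over (Bs k)} : Function.Injective (ap : Γs (Pt k H) T → _) := fun _ _ h =>
  congrArg (fun z => ULift.up (Additive.ofMul z)) (fnl_injective h)

@[simp] theorem aps_ap {T : Over (Bs k)} (s : Γs (Pt k H) T) : aps (ap s) = s := ap_injective (ap_aps _)

theorem ap_add {T : Over (Bs k)} (s t : Γs (Pt k H) T) : ap (s + t) = (toConv (ap s) * toConv (ap t)).ofConv :=
  fnl_mul _ _

theorem ap_zero {T : Over (Bs k)} : ap (0 : Γs (Pt k H) T) = (1 : WithConv (H →ₐ[k] O T)).ofConv := fnl_one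

theorem ap_r {U V : Over (Bs k)} (g : V ⟶ U) (s : Γs (Pt k H) U) : ap (r (Pt k H) g s) = (roA g).comp (ap s) :=
  fnl_comp g _

theorem aps_mul {T : Over (Bs k)} (x y : WithConv (H →ₐ[k] O T)) :
    aps (x * y).ofConv = aps x.ofConv + aps y.ofConv := by
  apply ap_injective
  rw [ap_add, ap_aps, ap_aps, ap_aps]

theorem aps_one {T : Over (Bs k)} : aps (1 : WithConv (H →ₐ[k] O T)).ofConv = 0 := by
  apply ap_injective
  rw [ap_aps, ap_zero]

end pts

section aff

variable {k : Type u} [CommRing k] {T : Over (Bs k)} [IsAffine T.left]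

attribute [local instance] algO

variable {R : Type u} [CommRing R] [Algebra k R] (ρ : O T →ₐ[k] R)

/-- The functions on the relative spectrum, as algebras. -/
def eA : R ≃ₐ[k] O (aff (ρ : O T →+* R)) :=
  AlgEquiv.ofRingEquiv (f := e (ρ : O T →+* R)) (fun c => by
    rw [← ro_alg (K771.Aff.π (ρ : O T →+* R)) c, ro_π]
    congr 1
    exact (ρ.commutes c).symm)

theorem eA_apply (x : R) : eA ρ x = e (ρ : O T →+* R) x := rfl

theorem roA_π : roA (K771.Aff.π (ρ : O T →+* R)) = (eA ρ : R →ₐ[k] O (aff (ρ : O T →+* R))).comp ρ :=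
  AlgHom.ext fun x => ro_π (ρ : O T →+* R) x

theorem exists_homA {V : Over (Bs k)} (h : V ⟶ T) (σ : R →ₐ[k] O V) (hσ : σ.comp ρ = roA h) :
    ∃ l : V ⟶ aff (ρ : O T →+* R), l ≫ K771.Aff.π (ρ : O T →+* R) = h ∧
      (roA l).comp (eA ρ : R →ₐ[k] O (aff (ρ : O T →+* R))) = σ := by
  obtain ⟨l, hl, hl2⟩ := K771.Aff.exists_hom (ρ : O T →+* R) h (σ : R →+* O V) (fun x => DFunLike.congr_fun hσ x)
  exact ⟨l, hl, AlgHom.ext fun x => hl2 x⟩

end aff

end K789.GPts
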